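import Mathlib

/-!
# The local rings of a fibre
-/

set_option autoImplicit false
set_option linter.style.haveILetI false

open AlgebraicGeometry CategoryTheory Limits IsLocalRing

namespace Groth.Agent.FlatDvr

universe u

variable {X Y : Scheme.{u}} (f : X ⟶ Y)

theorem eq_zero_or_isUnit_stalk_field (k : Type u) [Field k] (p : Spec (CommRingCat.of k))
    (z : (Spec (CommRingCat.of k)).presheaf.stalk p) : z = 0 ∨ IsUnit z := by
  letI : Algebra k ((Spec (CommRingCat.of k)).presheaf.stalk p) := StructureSheaf.stalkAlgebra k p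
  haveI : IsLocalization.AtPrime ((Spec (CommRingCat.of k)).presheaf.stalk p) p.asIdeal :=
    StructureSheaf.IsLocalization.to_stalk (CommRingCat.of k) p
  obtain ⟨⟨a, s⟩, h⟩ := IsLocalization.surj p.asIdeal.primeCompl z
  have hs := IsLocalization.map_units ((Spec (CommRingCat.of k)).presheaf.stalk p) s
  rcases eq_or_ne a 0 with rfl | ha
  · rw [map_zero] at h
    exact .inl (hs.mul_left_eq_zero.1 h)
  · exact .inr (isUnit_of_mul_isUnit_left (h ▸ (ha.isUnit.map (algebraMap k _))))

theorem fiberι_apply_eq {y : Y} (w : ↥(f.fiber y)) : f (f.fiberι y w) = y := by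
  have : f.fiberι y w ∈ Set.range (f.fiberι y) := ⟨w, rfl⟩
  rw [Scheme.Hom.range_fiberι] at this
  exact this

theorem stalkMap_fiber_maximalIdeal_eq_zero {y : Y} (w : ↥(f.fiber y))
    {a : Y.presheaf.stalk (f (f.fiberι y w))} (ha : a ∈ maximalIdeal _) :
    ((f.fiberι y).stalkMap w).hom ((f.stalkMap (f.fiberι y w)).hom a) = 0 := by
  have h : f.stalkMap (f.fiberι y w) ≫ (f.fiberι y).stalkMap w = (f.fiberι y ≫ f).stalkMap w :=
    (Scheme.Hom.stalkMap_comp _ _ _).symm
  rw [Scheme.Hom.stalkMap_congr_hom _ _ (Scheme.Hom.fiber_fac f y), Scheme.Hom.stalkMap_comp] at h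
  have h' := RingHom.congr_fun (congrArg CommRingCat.Hom.hom h) a
  simp only [CommRingCat.hom_comp, RingHom.comp_apply] at h'
  rw [h']
  refine Eq.trans (congrArg ((f.fiberToSpecResidueField y).stalkMap w).hom ?_) (map_zero _)
  refine (eq_zero_or_isUnit_stalk_field (Y.residueField y) _ _).resolve_right fun hu => ?_
  haveI : IsIso (Y.presheaf.stalkCongr (.of_eq (show (f.fiberι y ≫ f) w =
      (f.fiberToSpecResidueField y ≫ Y.fromSpecResidueField y) w by rw [Scheme.Hom.fiber_fac]))).hom :=
    inferInstance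
  exact ha (isUnit_of_map_unit (Y.presheaf.stalkCongr _).hom.hom a
    (isUnit_of_map_unit (Scheme.Hom.stalkMap (Y.fromSpecResidueField y) _).hom _ hu))

/-- The local ring of a fibre is the quotient of the local ring by the maximal ideal of the base. -/
theorem ker_stalkMap_fiberι {y : Y} (w : ↥(f.fiber y)) :
    RingHom.ker ((f.fiberι y).stalkMap w).hom =
      (maximalIdeal (Y.presheaf.stalk (f (f.fiberι y w)))).map (f.stalkMap (f.fiberι y w)).hom := by
  set x := f.fiberι y w with hxdef
  set I := (maximalIdeal (Y.presheaf.stalk (f x))).map (f.stalkMap x).hom with hI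
  refine le_antisymm (fun s hs => ?_) (Ideal.map_le_iff_le_comap.2 fun a ha =>
    RingHom.mem_ker.2 (stalkMap_fiber_maximalIdeal_eq_zero f w ha))
  have hne : I ≤ maximalIdeal _ := Ideal.map_le_iff_le_comap.2 fun a ha hu => ha (isUnit_of_map_unit _ a hu)
  haveI : Nontrivial (X.presheaf.stalk x ⧸ I) :=
    Ideal.Quotient.nontrivial_iff.2 fun h => (maximalIdeal.isMaximal _).ne_top (top_le_iff.1 (h ▸ hne))
  haveI : IsLocalRing (X.presheaf.stalk x ⧸ I) := .of_surjective' _ Ideal.Quotient.mk_surjective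
  let L : CommRingCat.{u} := CommRingCat.of (X.presheaf.stalk x ⧸ I)
  let q : X.presheaf.stalk x ⟶ L := CommRingCat.ofHom (Ideal.Quotient.mk I)
  haveI : IsLocalHom q.hom := IsLocalHom.of_surjective _ Ideal.Quotient.mk_surjective
  let r : Y.presheaf.stalk (f x) →+* L := q.hom.comp (f.stalkMap x).hom
  have hr : ∀ a ∈ maximalIdeal (Y.presheaf.stalk (f x)), r a = 0 := fun a ha =>
    Ideal.Quotient.eq_zero_iff_mem.2 (Ideal.mem_map_of_mem _ ha)
  let r' : Y.residueField (f x) ⟶ L := CommRingCat.ofHom (Ideal.Quotient.lift _ r hr)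
  have hr' : Y.residue (f x) ≫ r' = f.stalkMap x ≫ q := rfl
  have hxy : f x = y := fiberι_apply_eq f w
  let g : Spec L ⟶ f.fiber y := pullback.lift (Spec.map q ≫ X.fromSpecStalk x)
    (Spec.map ((Y.residueFieldCongr hxy).inv ≫ r')) (by
      rw [Spec.map_comp, Category.assoc, Category.assoc, Scheme.residueFieldCongr_inv,
        Scheme.residueFieldCongr_fromSpecResidueField, Scheme.fromSpecResidueField, ← Spec.map_comp_assoc,
        hr', Spec.map_comp_assoc, Scheme.SpecMap_stalkMap_fromSpecStalk])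
  have hg : g ≫ f.fiberι y = Spec.map q ≫ X.fromSpecStalk x := pullback.lift_fst _ _ _
  have hgw : g (closedPoint L) = w := by
    refine (f.fiberι y).isEmbedding.injective ?_
    rw [← Scheme.Hom.comp_apply, hg, Scheme.Hom.comp_apply, ← hxdef]
    exact (congrArg (X.fromSpecStalk x) (IsLocalRing.comap_closedPoint q.hom)).trans Scheme.fromSpecStalk_closedPoint
  have key := Scheme.stalkClosedPointTo_comp g (f.fiberι y)
  rw [Scheme.stalkClosedPointTo] at key
  let e : (f.fiberι y) (g (closedPoint L)) ⤳ x := specializes_of_eq (by rw [hgw])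
  have h1 : X.presheaf.stalkSpecializes e ≫ (f.fiberι y).stalkMap (g (closedPoint L)) =
      (f.fiberι y).stalkMap w ≫ (f.fiber y).presheaf.stalkSpecializes (specializes_of_eq hgw) :=
    Scheme.Hom.stalkSpecializes_stalkMap _ _ _ _
  have h0 : ∀ m : Spec L ⟶ X, m = Spec.map q ≫ X.fromSpecStalk x → ∀ e' : m (closedPoint L) ⤳ x,
      X.presheaf.stalkSpecializes e' ≫ Scheme.stalkClosedPointTo m = q := by
    rintro m rfl e'
    refine TopCat.Presheaf.stalk_hom_ext _ fun U hxU => ?_
    rw [TopCat.Presheaf.germ_stalkSpecializes_assoc, Scheme.germ_stalkClosedPointTo_Spec_fromSpecStalk]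
  have h2 : X.presheaf.stalkSpecializes e ≫ Scheme.stalkClosedPointTo (g ≫ f.fiberι y) = q := h0 _ hg e
  rw [Scheme.stalkClosedPointTo_comp, reassoc_of% h1] at h2
  have h3 := RingHom.congr_fun (congrArg CommRingCat.Hom.hom h2) s
  simp only [CommRingCat.hom_comp, RingHom.comp_apply] at h3
  rw [RingHom.mem_ker.1 hs, map_zero, map_zero] at h3
  exact Ideal.Quotient.eq_zero_iff_mem.1 h3.symm

end Groth.Agent.FlatDvr
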