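import Groth.Agent.FlatDvr.FibreStalk
import Groth.Agent.FibDim.Open
import Groth.Agent.DimFormula.Open

/-!
# The dimension of the local ring, the base and the fibre, for locally Noetherian schemes (EGA IV 14.2.1)
-/

set_option autoImplicit false
set_option linter.style.haveILetI false

open AlgebraicGeometry CategoryTheory IsLocalRing Order

namespace Groth.Agent.FlatDvr

universe u

/-- Openness at a point lifts generizations, for locally Noetherian sources. -/
theorem exists_generization_of_isOpenAt {X Y : Scheme.{u}} [IsLocallyNoetherian X] (f : X ⟶ Y) {x : X}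
    (h : EGA43.IsOpenAt f.base x) {y' : Y} (hy : y' ⤳ f x) : ∃ ζ, ζ ⤳ x ∧ f ζ = y' := by
  by_contra hne
  push Not at hne
  obtain ⟨V, hV, hxV, -⟩ := exists_isAffineOpen_mem_and_subset (x := f x) (U := ⊤) trivial
  obtain ⟨U, hU, hxU, hUV⟩ := exists_isAffineOpen_mem_and_subset (x := x) (U := f ⁻¹ᵁ V) hxV
  haveI : IsNoetherianRing Γ(X, U) := IsLocallyNoetherian.component_noetherian ⟨U, hU⟩
  letI : Algebra Γ(Y, V) Γ(X, U) := (f.appLE V U hUV).hom.toAlgebra
  obtain ⟨p', hp'⟩ := VarDim.exists_fromSpec_eq hV (hy.mem_open V.isOpen hxV)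
  let I := p'.asIdeal.map (algebraMap Γ(Y, V) Γ(X, U))
  let S : Set (PrimeSpectrum Γ(X, U)) :=
    {R | R.asIdeal ∈ I.minimalPrimes ∧ PrimeSpectrum.comap (algebraMap Γ(Y, V) Γ(X, U)) R = p'}
  have hS : S.Finite := ((Ideal.finite_minimalPrimes_of_isNoetherianRing _ I).preimage
    (f := PrimeSpectrum.asIdeal) fun a _ b _ h => PrimeSpectrum.ext h).subset fun R hR => hR.1
  let O : Set X := (U : Set X) ∩ (⋃ R ∈ S, closure {(hU.fromSpec R : X)})ᶜ
  have hO : O ∈ nhds x := by
    refine (U.isOpen.inter (hS.isClosed_biUnion fun R _ => isClosed_closure).isOpen_compl).mem_nhds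
      ⟨hxU, fun hmem => ?_⟩
    obtain ⟨R, hR, hRx⟩ := Set.mem_iUnion₂.1 hmem
    refine hne _ (specializes_iff_mem_closure.2 hRx) ?_
    rw [FibDim.fromSpec_comm f hV hU hUV, ← hp']
    exact congrArg hV.fromSpec hR.2
  obtain ⟨w, ⟨hwU, hw⟩, hfw⟩ := mem_of_mem_nhds (Filter.mem_of_superset
    (show (f.base '' O) ∈ nhds y' from hy (h O hO)) subset_rfl)
  obtain ⟨Q, rfl⟩ := VarDim.exists_fromSpec_eq hU hwU
  have hQ : PrimeSpectrum.comap (algebraMap Γ(Y, V) Γ(X, U)) Q = p' :=
    hV.fromSpec.isOpenEmbedding.injective ((FibDim.fromSpec_comm f hV hU hUV Q).symm.trans (hfw.trans hp'.symm))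
  obtain ⟨M, hM, hMle⟩ := Ideal.exists_minimalPrimes_le (Ideal.map_le_iff_le_comap.2
    (congrArg PrimeSpectrum.asIdeal hQ).ge : I ≤ Q.asIdeal)
  refine hw (Set.mem_iUnion₂.2 ⟨⟨M, hM.1.1⟩, ⟨hM, PrimeSpectrum.ext (le_antisymm ?_ ?_)⟩,
    specializes_iff_mem_closure.1 ((VarDim.fromSpec_specializes_iff hU _ Q).2 hMle)⟩)
  · exact (Ideal.comap_mono hMle).trans (congrArg PrimeSpectrum.asIdeal hQ).le
  · exact Ideal.map_le_iff_le_comap.1 hM.1.2

variable {X Y : Scheme.{u}} (f : X ⟶ Y)

/-- The dimension of the local ring of the fibre. -/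
theorem ringKrullDim_stalk_fibre {y : Y} (w : ↥(f.fiber y)) :
    ringKrullDim ((f.fiber y).presheaf.stalk w) =
      ringKrullDim (X.presheaf.stalk (f.fiberι y w) ⧸
        (maximalIdeal (Y.presheaf.stalk (f (f.fiberι y w)))).map (f.stalkMap (f.fiberι y w)).hom) := by
  rw [← ker_stalkMap_fiberι]
  exact (ringKrullDim_eq_of_ringEquiv
    (RingHom.quotientKerEquivOfSurjective ((f.fiberι y).stalkMap_surjective w))).symm

theorem ringKrullDim_stalk_le [IsLocallyNoetherian Y] (x : X) [IsNoetherianRing (X.presheaf.stalk x)] :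
    ringKrullDim (X.presheaf.stalk x) ≤ ringKrullDim (Y.presheaf.stalk (f x)) +
      ringKrullDim ((f.fiber (f x)).presheaf.stalk (f.asFiber x)) := by
  suffices key : ∀ (y : Y) (w : ↥(f.fiber y)), IsNoetherianRing (X.presheaf.stalk (f.fiberι y w)) →
      ringKrullDim (X.presheaf.stalk (f.fiberι y w)) ≤ ringKrullDim (Y.presheaf.stalk (f (f.fiberι y w))) +
        ringKrullDim ((f.fiber y).presheaf.stalk w) by
    have := key (f x) (f.asFiber x)
    rw [Scheme.Hom.fiberι_asFiber] at this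
    exact this ‹_›
  intro y w hn
  rw [ringKrullDim_stalk_fibre]
  set x := f.fiberι y w
  letI := (f.stalkMap x).hom.toAlgebra
  haveI : IsLocalHom (algebraMap (Y.presheaf.stalk (f x)) (X.presheaf.stalk x)) :=
    inferInstanceAs (IsLocalHom (f.stalkMap x).hom)
  haveI : (maximalIdeal (X.presheaf.stalk x)).LiesOver (maximalIdeal (Y.presheaf.stalk (f x))) :=
    ⟨((maximalIdeal.isMaximal _).eq_of_le (Ideal.IsPrime.ne_top inferInstance) fun a ha hu => ha (isUnit_of_map_unit (f.stalkMap x).hom a hu))⟩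
  have h := Ideal.height_le_height_add_of_liesOver (maximalIdeal (Y.presheaf.stalk (f x)))
    (maximalIdeal (X.presheaf.stalk x))
  have hq : ((maximalIdeal (X.presheaf.stalk x)).map (Ideal.Quotient.mk
      ((maximalIdeal (Y.presheaf.stalk (f x))).map (algebraMap _ (X.presheaf.stalk x))))).height ≤
      ringKrullDim (X.presheaf.stalk x ⧸ (maximalIdeal (Y.presheaf.stalk (f x))).map (f.stalkMap x).hom) := by
    refine Ideal.height_le_ringKrullDim_of_ne_top fun htop => ?_
    have h2 := congrArg (Ideal.comap (Ideal.Quotient.mk _)) htop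
    rw [Ideal.comap_map_of_surjective _ Ideal.Quotient.mk_surjective, ← RingHom.ker_eq_comap_bot, Ideal.mk_ker,
      Ideal.comap_top, sup_of_le_left (Ideal.map_le_iff_le_comap.2 fun a ha hu => ha (isUnit_of_map_unit (f.stalkMap x).hom a hu) :
      (maximalIdeal (Y.presheaf.stalk (f x))).map (algebraMap _ (X.presheaf.stalk x)) ≤ maximalIdeal _)] at h2
    exact (maximalIdeal.isMaximal _).ne_top h2
  rw [← maximalIdeal_height_eq_ringKrullDim, ← maximalIdeal_height_eq_ringKrullDim]
  refine le_trans ?_ (add_le_add le_rfl hq)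
  exact_mod_cast h

theorem exists_dim_eq (R : Type u) [CommRing R] [IsLocalRing R] [IsNoetherianRing R] :
    ∃ n : ℕ, ringKrullDim R = n := by
  rw [← maximalIdeal_height_eq_ringKrullDim]
  obtain ⟨n, hn⟩ := ENat.ne_top_iff_exists.1
    (Ideal.height_ne_top (maximalIdeal.isMaximal R).ne_top)
  exact ⟨n, by rw [← hn]; rfl⟩

theorem height_head_add_length_le {α : Type u} [Preorder α] (L : LTSeries α) :
    height L.head + L.length ≤ height L.last := by
  suffices ∀ (k : ℕ) (hk : k < L.length + 1), height L.head + k ≤ height (L ⟨k, hk⟩) from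
    this L.length (Nat.lt_succ_self _)
  intro k
  induction k with
  | zero => intro hk; simp [RelSeries.head]
  | succ k ih =>
    intro hk
    push_cast
    rw [← add_assoc]
    exact (add_le_add_left (ih (by omega)) 1).trans (Order.height_add_one_le (L.strictMono (by simp [Fin.lt_def])))

/-- The algebraic form of EGA IV 14.2.1. -/
theorem add_le_ringKrullDim {O S : Type u} [CommRing O] [CommRing S] [IsLocalRing O] [IsLocalRing S]
    [IsNoetherianRing O] [IsNoetherianRing S] (φ : O →+* S) [IsLocalHom φ]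
    (h : ∀ Q ∈ ((maximalIdeal O).map φ).minimalPrimes, ∀ p : PrimeSpectrum O,
      ∃ R : PrimeSpectrum S, R.asIdeal ≤ Q ∧ PrimeSpectrum.comap φ R = p) :
    ringKrullDim O + ringKrullDim (S ⧸ (maximalIdeal O).map φ) ≤ ringKrullDim S := by
  let J := (maximalIdeal O).map φ
  have hJm : J ≤ maximalIdeal S := Ideal.map_le_iff_le_comap.2 fun a ha hu => ha (isUnit_of_map_unit φ a hu)
  haveI : Nontrivial (S ⧸ J) := Ideal.Quotient.nontrivial_iff.2 fun h =>
    (maximalIdeal.isMaximal S).ne_top (top_le_iff.1 (h ▸ hJm))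
  haveI : IsLocalRing (S ⧸ J) := .of_surjective' _ Ideal.Quotient.mk_surjective
  obtain ⟨e, he⟩ : ∃ e : ℕ, ringKrullDim (S ⧸ J) = e := exists_dim_eq (S ⧸ J)
  obtain ⟨d, hd⟩ : ∃ d : ℕ, ringKrullDim O = d := exists_dim_eq O
  obtain ⟨l, hl⟩ : ∃ l : LTSeries (PrimeSpectrum (S ⧸ J)), l.length = e :=
    Order.le_krullDim_iff.1 he.ge
  let L : LTSeries (PrimeSpectrum S) := l.map (PrimeSpectrum.comap (Ideal.Quotient.mk J))
    (fun a b hab => lt_of_le_of_ne (fun t ht => hab.le ht) fun h => hab.ne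
      (PrimeSpectrum.comap_injective_of_surjective _ Ideal.Quotient.mk_surjective h))
  have hJ : J ≤ L.head.asIdeal := fun a ha => by
    have : Ideal.Quotient.mk J a ∈ l.head.asIdeal := by
      rw [Ideal.Quotient.eq_zero_iff_mem.2 ha]; exact zero_mem _
    simpa [L] using this
  obtain ⟨Q, hQ, hQle⟩ := Ideal.exists_minimalPrimes_le hJ
  haveI := hQ.1.1
  let q : PrimeSpectrum S := ⟨Q, hQ.1.1⟩
  let SQ := Localization.AtPrime Q
  let ψ : O →+* SQ := (algebraMap S SQ).comp φ
  have hsurj : Function.Surjective (PrimeSpectrum.comap ψ) := fun p => by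
    obtain ⟨R, hle, hR⟩ := h Q hQ p
    obtain ⟨R', rfl⟩ : R ∈ Set.range (PrimeSpectrum.comap (algebraMap S SQ)) := by
      rw [PrimeSpectrum.localization_comap_range SQ Q.primeCompl]
      exact Set.disjoint_left.2 fun a ha haR => ha (hle haR)
    exact ⟨R', hR⟩
  have hle' : ∀ P : PrimeSpectrum SQ, (PrimeSpectrum.comap (algebraMap S SQ) P).asIdeal ≤ Q := fun P a ha =>
    by_contra fun h => (P.isPrime).ne_top
      (Ideal.eq_top_of_isUnit_mem _ ha (IsLocalization.map_units SQ (⟨a, h⟩ : Q.primeCompl)))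
  have hclosed : ∀ P : PrimeSpectrum SQ, PrimeSpectrum.comap ψ P = closedPoint O → P = closedPoint SQ :=
    fun P hP => PrimeSpectrum.localization_comap_injective SQ Q.primeCompl (PrimeSpectrum.ext (le_antisymm
      ((hle' P).trans Localization.AtPrime.comap_maximalIdeal.ge)
      ((hle' _).trans (hQ.2 ⟨(PrimeSpectrum.comap (algebraMap S SQ) P).2,
        Ideal.map_le_iff_le_comap.2 (congrArg PrimeSpectrum.asIdeal hP).ge⟩ (hle' P)))))
  obtain ⟨m, hm'⟩ : ∃ m : ℕ, ringKrullDim SQ = m := exists_dim_eq SQ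
  have hdm : d ≤ m := by
    have := DimFormula.dim_le_of_surjective_comap m O SQ ψ hsurj hclosed hm'.le
    rw [hd] at this
    exact_mod_cast this
  have hQh : (height q : WithBot ℕ∞) = m := by
    rw [← hm', IsLocalization.AtPrime.ringKrullDim_eq_height Q SQ]
    exact congrArg _ (PrimeSpectrum.height_eq_orderHeight q).symm
  have h1 : height q + e ≤ height L.last := by
    have h2 : height q ≤ height L.head := Order.height_mono hQle
    have h3 : height L.head + L.length ≤ height L.last := height_head_add_length_le L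
    calc height q + e ≤ height L.head + e := add_le_add h2 le_rfl
      _ = height L.head + L.length := by simp [L, hl]
      _ ≤ _ := h3
  rw [hd, he]
  refine le_trans ?_ (Order.height_le_krullDim L.last)
  calc ((d : ℕ) : WithBot ℕ∞) + (e : ℕ) ≤ (m : WithBot ℕ∞) + (e : ℕ) := add_le_add (by exact_mod_cast hdm) le_rfl
    _ = (height q : WithBot ℕ∞) + (e : ℕ) := by rw [hQh]
    _ ≤ _ := by exact_mod_cast h1

/-- EGA IV 14.2.1: openness at the maximal points of the fibre gives the dimension formula. -/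
theorem le_ringKrullDim_stalk [IsLocallyNoetherian X] [IsLocallyNoetherian Y] {y : Y} (w : ↥(f.fiber y))
    (hopen : ∀ z, z ⤳ f.fiberι y w → f z = f (f.fiberι y w) → FibDim.FibMax f z → EGA43.IsOpenAt f.base z) :
    ringKrullDim (Y.presheaf.stalk (f (f.fiberι y w))) + ringKrullDim ((f.fiber y).presheaf.stalk w) ≤
      ringKrullDim (X.presheaf.stalk (f.fiberι y w)) := by
  rw [ringKrullDim_stalk_fibre]
  set x := f.fiberι y w
  refine add_le_ringKrullDim (f.stalkMap x).hom fun Q hQ p => ?_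
  haveI := hQ.1.1
  let q : PrimeSpectrum (X.presheaf.stalk x) := ⟨Q, hQ.1.1⟩
  have hsp : ∀ R : PrimeSpectrum (X.presheaf.stalk x), X.fromSpecStalk x R ⤳ x := fun R => by
    have : X.fromSpecStalk x R ∈ Set.range (X.fromSpecStalk x) := ⟨R, rfl⟩
    rwa [Scheme.range_fromSpecStalk] at this
  have hcomm : ∀ R : PrimeSpectrum (X.presheaf.stalk x), f (X.fromSpecStalk x R) =
      Y.fromSpecStalk (f x) (PrimeSpectrum.comap (f.stalkMap x).hom R) := fun R => by
    show _ = (Spec.map (f.stalkMap x) ≫ Y.fromSpecStalk (f x)) R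
    rw [Scheme.SpecMap_stalkMap_fromSpecStalk]
    rfl
  have hz : f (X.fromSpecStalk x q) = f x := by
    refine (hcomm q).trans ((congrArg (Y.fromSpecStalk (f x)) (?_ : _ = closedPoint _)).trans
      Scheme.fromSpecStalk_closedPoint)
    exact PrimeSpectrum.ext ((maximalIdeal.isMaximal _).eq_of_le (Ideal.IsPrime.ne_top inferInstance)
      (Ideal.map_le_iff_le_comap.1 hQ.1.2)).symm
  have hm : FibDim.FibMax f (X.fromSpecStalk x q) := fun v hv hfv => by
    obtain ⟨R, rfl⟩ : v ∈ Set.range (X.fromSpecStalk x) := by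
      rw [Scheme.range_fromSpecStalk]; exact hv.trans (hsp q)
    let R' : PrimeSpectrum (X.presheaf.stalk x) := R
    have hle : R'.asIdeal ≤ Q := (PrimeSpectrum.le_iff_specializes R' q).2
      ((X.fromSpecStalk x).isEmbedding.isInducing.specializes_iff.1 hv)
    have hcl : PrimeSpectrum.comap (f.stalkMap x).hom R' = closedPoint _ :=
      (Y.fromSpecStalk (f x)).isEmbedding.injective
        ((hcomm R').symm.trans ((hfv.trans hz).trans Scheme.fromSpecStalk_closedPoint.symm))
    exact congrArg (X.fromSpecStalk x) (show R' = q from PrimeSpectrum.ext (le_antisymm hle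
      (hQ.2 ⟨R'.2, Ideal.map_le_iff_le_comap.2 (congrArg PrimeSpectrum.asIdeal hcl).ge⟩ hle)))
  have hp : Y.fromSpecStalk (f x) p ⤳ f (X.fromSpecStalk x q) := by
    rw [hz]
    have : Y.fromSpecStalk (f x) p ∈ Set.range (Y.fromSpecStalk (f x)) := ⟨p, rfl⟩
    rwa [Scheme.range_fromSpecStalk] at this
  obtain ⟨ζ, hζ, hfζ⟩ := exists_generization_of_isOpenAt f (hopen _ (hsp q) hz hm) hp
  obtain ⟨R, rfl⟩ : ζ ∈ Set.range (X.fromSpecStalk x) := by
    rw [Scheme.range_fromSpecStalk]; exact hζ.trans (hsp q)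
  let R' : PrimeSpectrum (X.presheaf.stalk x) := R
  exact ⟨R', (PrimeSpectrum.le_iff_specializes R' q).2
      ((X.fromSpecStalk x).isEmbedding.isInducing.specializes_iff.1 hζ),
    (Y.fromSpecStalk (f x)).isEmbedding.injective ((hcomm R').symm.trans hfζ)⟩

end Groth.Agent.FlatDvr
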