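import Groth.Agent.FlatDvr.Dvr
import Groth.Agent.FibDim.Top
import Mathlib.RingTheory.Spectrum.Prime.Topology

/-!
# Connectedness of the generic fibre over a discrete valuation ring (EGA IV 15.5.6)
-/

set_option autoImplicit false
set_option linter.style.haveILetI false

open AlgebraicGeometry CategoryTheory Limits IsLocalRing Topology

namespace Groth.Agent.FlatDvr

universe u

/-- An idempotent of `S[1/t]` comes from `S` when `t` is regular and `S/(t)` is reduced. -/
theorem exists_isIdempotentElem {S R : Type u} [CommRing S] [CommRing R] [_root_.IsReduced R] (φ : S →+* R)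
    {t : S} (hker : RingHom.ker φ = Ideal.span {t}) (hreg : ∀ a, t * a = 0 → a = 0)
    {e : Localization.Away t} (he : IsIdempotentElem e) :
    ∃ s : S, IsIdempotentElem s ∧ algebraMap S (Localization.Away t) s = e := by
  obtain ⟨⟨s, ⟨_, n, rfl⟩⟩, hs⟩ := IsLocalization.surj (Submonoid.powers t) e
  have hinj : Function.Injective (algebraMap S (Localization.Away t)) := by
    refine (injective_iff_map_eq_zero _).2 fun a ha => ?_
    obtain ⟨⟨_, m, rfl⟩, hm⟩ := (IsLocalization.map_eq_zero_iff (Submonoid.powers t) _ _).1 ha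
    replace hm : t ^ m * a = 0 := hm
    clear ha
    induction m with
    | zero => simpa using hm
    | succ m ih => exact ih (hreg _ (by rw [← hm, pow_succ', mul_assoc]))
  replace hs : e * algebraMap S (Localization.Away t) (t ^ n) = algebraMap S (Localization.Away t) s := hs
  induction n generalizing s with
  | zero =>
    simp only [pow_zero, map_one, mul_one] at hs
    exact ⟨s, hinj (by rw [map_mul, ← hs]; exact he), hs.symm⟩
  | succ n ih =>
    have h2 : s * s = t ^ (n + 1) * s := hinj (by
      rw [map_mul, map_mul, ← hs]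
      linear_combination (algebraMap S (Localization.Away t) (t ^ (n + 1))) ^ 2 * he.eq)
    have h3 : s ∈ RingHom.ker φ := by
      rw [RingHom.mem_ker]
      refine IsReduced.eq_zero _ ⟨2, ?_⟩
      rw [pow_two, ← map_mul, ← RingHom.mem_ker, hker, h2, Ideal.mem_span_singleton]
      exact ⟨t ^ n * s, by rw [pow_succ']; ring⟩
    rw [hker, Ideal.mem_span_singleton] at h3
    obtain ⟨s', rfl⟩ := h3
    refine ih s' ?_
    have hu : IsUnit (algebraMap S (Localization.Away t) t) :=
      IsLocalization.map_units (Localization.Away t) (⟨t, 1, pow_one t⟩ : Submonoid.powers t)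
    refine hu.mul_left_cancel ?_
    simp only [map_mul, map_pow, pow_succ'] at hs ⊢
    linear_combination hs

variable {X : Scheme.{u}} {A : Type u} [CommRing A] [IsDomain A] [IsDiscreteValuationRing A]

theorem false_of_split (f : X ⟶ Spec (CommRingCat.of A)) [LocallyOfFiniteType f]
    (hopen : IsOpenMap f.base) {b : Spec (CommRingCat.of A)} (hb : b ≠ closedPoint A)
    {P Q : Set X} (hP : IsClosed P) (hQ : IsClosed Q) (hPQ : P ∪ Q = Set.univ)
    (hdisj : ∀ z ∈ P ∩ Q, f z ≠ b) (w : ↥(f.fiber (closedPoint A : Spec (CommRingCat.of A))))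
    (hred : _root_.IsReduced ((f.fiber (closedPoint A : Spec (CommRingCat.of A))).presheaf.stalk w))
    (hwP : ∃ z ∈ P, f z = b ∧ z ⤳ f.fiberι _ w) (hwQ : ∃ z ∈ Q, f z = b ∧ z ⤳ f.fiberι _ w) : False := by
  have hflat := flat_stalkMap f rfl w (fun z _ _ _ => fun U hU => hopen.image_mem_nhds hU) hred
  set x := f.fiberι _ w with hxdef
  have hfx : f x = closedPoint A := fiberι_apply_eq f w
  obtain ⟨hdom, hdvr⟩ := isDvr_stalk hfx
  let O := (Spec (CommRingCat.of A)).presheaf.stalk (f x)
  let S := X.presheaf.stalk x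
  let φ : O →+* S := (f.stalkMap x).hom
  obtain ⟨π, hπ⟩ := IsDiscreteValuationRing.exists_irreducible O
  have hm := (IsDiscreteValuationRing.irreducible_iff_uniformizer π).1 hπ
  have hker : RingHom.ker ((f.fiberι _).stalkMap w).hom = Ideal.span {φ π} := by
    rw [ker_stalkMap_fiberι]
    show (maximalIdeal O).map φ = _
    rw [hm, Ideal.map_span, Set.image_singleton]
  have hreg : ∀ a : S, φ π * a = 0 → a = 0 := fun a ha => by
    letI := φ.toAlgebra
    haveI : Module.Flat O S := hflat
    exact Module.Flat.isSMulRegular_of_nonZeroDivisors (M := S) (mem_nonZeroDivisors_of_ne_zero hπ.ne_zero)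
      (show π • a = π • 0 by rw [smul_zero, Algebra.smul_def]; exact ha)
  let S' := Localization.Away (φ π)
  let j : PrimeSpectrum S' → X := fun p => X.fromSpecStalk x (PrimeSpectrum.comap (algebraMap S S') p)
  have hj : Continuous j := (X.fromSpecStalk x).continuous.comp (PrimeSpectrum.continuous_comap (algebraMap S S'))
  have hcomm : ∀ p : PrimeSpectrum S, f (X.fromSpecStalk x p) =
      (Spec (CommRingCat.of A)).fromSpecStalk (f x) (PrimeSpectrum.comap φ p) := fun p => by
    show _ = (Spec.map (f.stalkMap x) ≫ (Spec (CommRingCat.of A)).fromSpecStalk (f x)) p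
    rw [Scheme.SpecMap_stalkMap_fromSpecStalk]
    rfl
  have hiff : ∀ p : PrimeSpectrum S, f (X.fromSpecStalk x p) = b ↔ φ π ∉ p.asIdeal := fun p => by
    let t : Spec (CommRingCat.of A) := f (X.fromSpecStalk x p)
    have hcases : t = closedPoint A ↔ φ π ∈ p.asIdeal := by
      constructor
      · intro ht
        have : PrimeSpectrum.comap φ p = closedPoint O := ((Spec (CommRingCat.of A)).fromSpecStalk (f x)).isEmbedding.injective
          ((hcomm p).symm.trans (ht.trans (hfx.symm.trans Scheme.fromSpecStalk_closedPoint.symm)))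
        exact (congrArg PrimeSpectrum.asIdeal this).ge (show π ∈ maximalIdeal O by rw [hm]; exact Ideal.mem_span_singleton_self π)
      · intro hp
        have : PrimeSpectrum.comap φ p = closedPoint O :=
          PrimeSpectrum.ext ((maximalIdeal.isMaximal O).eq_of_le (Ideal.IsPrime.ne_top inferInstance)
            (by rw [hm, Ideal.span_le, Set.singleton_subset_iff]; exact hp)).symm
        exact (hcomm p).trans ((congrArg _ this).trans (Scheme.fromSpecStalk_closedPoint.trans hfx))
    refine ⟨fun h hp => hb (h.symm.trans (hcases.2 hp)), fun hp => ?_⟩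
    have two : ∀ q : PrimeSpectrum A, q ≠ closedPoint A → q.asIdeal = ⊥ := fun q hq => by
      by_contra h
      exact hq (PrimeSpectrum.ext (IsLocalRing.eq_maximalIdeal (q.isPrime.isMaximal h)))
    exact PrimeSpectrum.ext ((two t fun h => hp (hcases.1 h)).trans (two b hb).symm)
  have hjb : ∀ p, f (j p) = b := fun p => (hiff _).2 fun h =>
    p.isPrime.ne_top (Ideal.eq_top_of_isUnit_mem _ h
      (IsLocalization.map_units S' (⟨φ π, 1, pow_one _⟩ : Submonoid.powers (φ π))))
  have hcompl : j ⁻¹' P = (j ⁻¹' Q)ᶜ := by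
    ext p
    constructor
    · exact fun h h' => hdisj _ ⟨h, h'⟩ (hjb p)
    · exact fun h => ((Set.eq_univ_iff_forall.1 hPQ (j p)).resolve_right h)
  have hclopen : IsClopen (j ⁻¹' P) := ⟨hP.preimage hj, hcompl ▸ (hQ.preimage hj).isOpen_compl⟩
  obtain ⟨e, he, hPe⟩ := PrimeSpectrum.exists_idempotent_basicOpen_eq_of_isClopen hclopen
  obtain ⟨s, hs, rfl⟩ := exists_isIdempotentElem ((f.fiberι _).stalkMap w).hom hker hreg he
  have hlift : ∀ z, z ⤳ x → f z = b → ∃ p, j p = z := fun z hz hfz => by
    obtain ⟨p, rfl⟩ : z ∈ Set.range (X.fromSpecStalk x) := by rw [Scheme.range_fromSpecStalk]; exact hz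
    let p' : PrimeSpectrum S := p
    obtain ⟨q, hq⟩ : p' ∈ Set.range (PrimeSpectrum.comap (algebraMap S S')) := by
      rw [PrimeSpectrum.localization_away_comap_range S' (φ π)]
      exact (hiff p').1 hfz
    exact ⟨q, congrArg (X.fromSpecStalk x) hq⟩
  obtain ⟨z, hzP, hfz, hzx⟩ := hwP
  obtain ⟨p, rfl⟩ := hlift z hzx hfz
  obtain ⟨z', hzQ, hfz', hzx'⟩ := hwQ
  obtain ⟨q, rfl⟩ := hlift z' hzx' hfz'
  have h01 : s = 0 ∨ s = 1 := by
    rcases IsLocalRing.isUnit_or_isUnit_one_sub_self s with h | h
    · exact .inr (h.mul_left_cancel (by rw [mul_one]; exact hs.eq))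
    · exact .inl (h.mul_left_cancel (by rw [mul_zero, sub_mul, one_mul, hs.eq, sub_self]))
  rcases h01 with rfl | rfl
  · have : p ∈ j ⁻¹' P := hzP
    rw [hPe] at this
    simp at this
  · have : q ∈ j ⁻¹' P := by rw [hPe]; simp
    exact (hcompl ▸ this) hzQ

/-- The generizations in the generic fibre of a point with reduced special fibre form a preconnected set. -/
theorem exists_preconnected_generic (f : X ⟶ Spec (CommRingCat.of A)) [LocallyOfFiniteType f]
    {c : Spec (CommRingCat.of A)} (hc : c = closedPoint A) (w : ↥(f.fiber c))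
    (hopen : ∀ z, z ⤳ f.fiberι c w → f z = f (f.fiberι c w) → FibDim.FibMax f z → EGA43.IsOpenAt f.base z)
    (hred : _root_.IsReduced ((f.fiber c).presheaf.stalk w)) {z₁ z₂ : X}
    (h₁ : z₁ ⤳ f.fiberι c w) (h₂ : z₂ ⤳ f.fiberι c w) (h₁' : f z₁ ≠ c) (h₂' : f z₂ ≠ c) :
    ∃ T : Set X, (_root_.IsPreconnected T ∧ ∀ t ∈ T, f t ≠ c) ∧ z₁ ∈ T ∧ z₂ ∈ T := by
  have hflat := flat_stalkMap f hc w hopen hred
  set x := f.fiberι c w with hxdef
  have hfx : f x = closedPoint A := (fiberι_apply_eq f w).trans hc
  obtain ⟨hdom, hdvr⟩ := isDvr_stalk hfx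
  let O := (Spec (CommRingCat.of A)).presheaf.stalk (f x)
  let S := X.presheaf.stalk x
  let φ : O →+* S := (f.stalkMap x).hom
  obtain ⟨π, hπ⟩ := IsDiscreteValuationRing.exists_irreducible O
  have hm := (IsDiscreteValuationRing.irreducible_iff_uniformizer π).1 hπ
  have hker : RingHom.ker ((f.fiberι c).stalkMap w).hom = Ideal.span {φ π} := by
    rw [ker_stalkMap_fiberι]
    show (maximalIdeal O).map φ = _
    rw [hm, Ideal.map_span, Set.image_singleton]
  have hreg : ∀ a : S, φ π * a = 0 → a = 0 := fun a ha => by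
    letI := φ.toAlgebra
    haveI : Module.Flat O S := hflat
    exact Module.Flat.isSMulRegular_of_nonZeroDivisors (M := S) (mem_nonZeroDivisors_of_ne_zero hπ.ne_zero)
      (show π • a = π • 0 by rw [smul_zero, Algebra.smul_def]; exact ha)
  let S' := Localization.Away (φ π)
  haveI : PreconnectedSpace (PrimeSpectrum S') := preconnectedSpace_iff_clopen.2 fun U hU => by
    obtain ⟨e, he, rfl⟩ := PrimeSpectrum.exists_idempotent_basicOpen_eq_of_isClopen hU
    obtain ⟨s, hs, rfl⟩ := exists_isIdempotentElem ((f.fiberι c).stalkMap w).hom hker hreg he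
    have h01 : s = 0 ∨ s = 1 := by
      rcases IsLocalRing.isUnit_or_isUnit_one_sub_self s with h | h
      · exact .inr (h.mul_left_cancel (by rw [mul_one]; exact hs.eq))
      · exact .inl (h.mul_left_cancel (by rw [mul_zero, sub_mul, one_mul, hs.eq, sub_self]))
    rcases h01 with rfl | rfl
    · left; simp
    · right; simp
  have hj : Continuous (fun p : PrimeSpectrum S' => X.fromSpecStalk x (PrimeSpectrum.comap (algebraMap S S') p)) :=
    (X.fromSpecStalk x).continuous.comp (PrimeSpectrum.continuous_comap (algebraMap S S'))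
  have hcomm : ∀ p : PrimeSpectrum S, f (X.fromSpecStalk x p) =
      (Spec (CommRingCat.of A)).fromSpecStalk (f x) (PrimeSpectrum.comap φ p) := fun p => by
    show _ = (Spec.map (f.stalkMap x) ≫ (Spec (CommRingCat.of A)).fromSpecStalk (f x)) p
    rw [Scheme.SpecMap_stalkMap_fromSpecStalk]
    rfl
  have hiff : ∀ p : PrimeSpectrum S, f (X.fromSpecStalk x p) = c ↔ φ π ∈ p.asIdeal := fun p => by
    constructor
    · intro ht
      have : PrimeSpectrum.comap φ p = closedPoint O := ((Spec (CommRingCat.of A)).fromSpecStalk (f x)).isEmbedding.injective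
        ((hcomm p).symm.trans (ht.trans ((hc.trans hfx.symm).trans Scheme.fromSpecStalk_closedPoint.symm)))
      exact (congrArg PrimeSpectrum.asIdeal this).ge (show π ∈ maximalIdeal O by rw [hm]; exact Ideal.mem_span_singleton_self π)
    · intro hp
      have : PrimeSpectrum.comap φ p = closedPoint O :=
        PrimeSpectrum.ext ((maximalIdeal.isMaximal O).eq_of_le (Ideal.IsPrime.ne_top inferInstance)
          (by rw [hm, Ideal.span_le, Set.singleton_subset_iff]; exact hp)).symm
      exact (hcomm p).trans ((congrArg _ this).trans (Scheme.fromSpecStalk_closedPoint.trans (hfx.trans hc.symm)))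
  have hlift : ∀ z, z ⤳ x → f z ≠ c → z ∈ Set.range
      (fun p : PrimeSpectrum S' => X.fromSpecStalk x (PrimeSpectrum.comap (algebraMap S S') p)) := fun z hz hfz => by
    obtain ⟨p, rfl⟩ : z ∈ Set.range (X.fromSpecStalk x) := by rw [Scheme.range_fromSpecStalk]; exact hz
    let p' : PrimeSpectrum S := p
    obtain ⟨q, hq⟩ : p' ∈ Set.range (PrimeSpectrum.comap (algebraMap S S')) := by
      rw [PrimeSpectrum.localization_away_comap_range S' (φ π)]
      exact fun h => hfz ((hiff p').2 h)
    exact ⟨q, congrArg (X.fromSpecStalk x) hq⟩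
  refine ⟨_, ⟨isPreconnected_range hj, ?_⟩, hlift z₁ h₁ h₁', hlift z₂ h₂ h₂'⟩
  rintro _ ⟨p, rfl⟩ h
  exact p.isPrime.ne_top (Ideal.eq_top_of_isUnit_mem _ ((hiff _).1 h)
    (IsLocalization.map_units S' (⟨φ π, 1, pow_one _⟩ : Submonoid.powers (φ π))))

end Groth.Agent.FlatDvr
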