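import Groth.Agent.FlatDvr.FibreStalk
import Groth.Agent.FibDim.Open
import Groth.Agent.UnivOpen.Unibranch

/-!
# Flatness over a discrete valuation ring (EGA IV 14.4.8)
-/

set_option autoImplicit false
set_option linter.style.haveILetI false

open AlgebraicGeometry CategoryTheory Limits IsLocalRing

namespace Groth.Agent.FlatDvr

universe u

theorem eq_zero_of_mul_eq_zero_of_quotient_reduced {S R : Type u} [CommRing S] [IsNoetherianRing S] [IsLocalRing S]
    [CommRing R] [_root_.IsReduced R] (φ : S →+* R) {t : S} (ht : t ∈ maximalIdeal S)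
    (hker : RingHom.ker φ = Ideal.span {t}) (hmin : ∀ P ∈ minimalPrimes S, t ∉ P) {a : S} (ha : t * a = 0) :
    a = 0 := by
  have key : ∀ b : S, t * b ∈ nilradical S → b ∈ nilradical S := fun b hb => by
    rw [nilradical, ← Ideal.sInf_minimalPrimes, Submodule.mem_sInf] at hb ⊢
    intro P hP
    exact ((hP.1.1).mem_or_mem (hb P hP)).resolve_left (hmin P hP)
  have hN : nilradical S ≤ maximalIdeal S • nilradical S := fun b hb => by
    have hb' : b ∈ RingHom.ker φ := ((mem_nilradical.1 hb).map φ).eq_zero
    rw [hker, Ideal.mem_span_singleton'] at hb'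
    obtain ⟨c, rfl⟩ := hb'
    rw [mul_comm] at hb ⊢
    exact Submodule.smul_mem_smul ht (key c hb)
  have hbot : nilradical S = ⊥ := Submodule.eq_bot_of_le_smul_of_le_jacobson_bot (maximalIdeal S) _
    (IsNoetherian.noetherian _) hN (maximalIdeal_le_jacobson _)
  have := key a (by rw [ha]; exact zero_mem _)
  rwa [hbot, Ideal.mem_bot] at this

variable {X : Scheme.{u}} {A : Type u} [CommRing A] [IsDomain A] [IsDiscreteValuationRing A]

theorem isDvr_stalk {y : Spec (CommRingCat.of A)} (hy : y = closedPoint A) :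
    ∃ _ : IsDomain ((Spec (CommRingCat.of A)).presheaf.stalk y),
      IsDiscreteValuationRing ((Spec (CommRingCat.of A)).presheaf.stalk y) := by
  letI : Algebra A ((Spec (CommRingCat.of A)).presheaf.stalk y) := StructureSheaf.stalkAlgebra A y
  haveI : IsLocalization.AtPrime ((Spec (CommRingCat.of A)).presheaf.stalk y) y.asIdeal :=
    StructureSheaf.IsLocalization.to_stalk (CommRingCat.of A) y
  have hu : y.asIdeal.primeCompl ≤ IsUnit.submonoid A := fun a ha => by
    by_contra h
    exact ha (by rw [hy]; exact h)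
  let e := IsLocalization.atUnits A y.asIdeal.primeCompl (S := (Spec (CommRingCat.of A)).presheaf.stalk y) hu
  haveI : IsDomain ((Spec (CommRingCat.of A)).presheaf.stalk y) := (RingEquiv.toMulEquiv e.toRingEquiv.symm).isDomain A
  exact ⟨inferInstance, IsDiscreteValuationRing.RingEquivClass.isDiscreteValuationRing e⟩

/-- EGA IV 14.4.8 (discrete valuation rings): openness at the maximal points of a reduced fibre gives flatness. -/
theorem flat_stalkMap (f : X ⟶ Spec (CommRingCat.of A)) [LocallyOfFiniteType f]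
    {y : Spec (CommRingCat.of A)} (hy : y = closedPoint A) (w : ↥(f.fiber y))
    (hopen : ∀ z, z ⤳ f.fiberι y w → f z = f (f.fiberι y w) → FibDim.FibMax f z → EGA43.IsOpenAt f.base z)
    (hred : _root_.IsReduced ((f.fiber y).presheaf.stalk w)) :
    (f.stalkMap (f.fiberι y w)).hom.Flat := by
  haveI : IsLocallyNoetherian (Spec (CommRingCat.of A)) := inferInstance
  haveI := LocallyOfFiniteType.isLocallyNoetherian f
  set x := f.fiberι y w with hxdef
  have hfx : f x = closedPoint A := (fiberι_apply_eq f w).trans hy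
  obtain ⟨hdom, hdvr⟩ := isDvr_stalk hfx
  let O := (Spec (CommRingCat.of A)).presheaf.stalk (f x)
  let φ : O →+* X.presheaf.stalk x := (f.stalkMap x).hom
  obtain ⟨π, hπ⟩ := IsDiscreteValuationRing.exists_irreducible O
  have hm := (IsDiscreteValuationRing.irreducible_iff_uniformizer π).1 hπ
  have hker : RingHom.ker ((f.fiberι y).stalkMap w).hom = Ideal.span {φ π} := by
    rw [ker_stalkMap_fiberι]
    show (maximalIdeal O).map φ = _
    rw [hm, Ideal.map_span, Set.image_singleton]
  have ht : φ π ∈ maximalIdeal (X.presheaf.stalk x) := fun hu => hπ.not_isUnit (isUnit_of_map_unit φ π hu)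
  have hmin : ∀ P ∈ minimalPrimes (X.presheaf.stalk x), φ π ∉ P := by
    intro P hP hπP
    haveI := hP.1.1
    let p : PrimeSpectrum (X.presheaf.stalk x) := ⟨P, hP.1.1⟩
    let z := X.fromSpecStalk x p
    have hfz : f z = f x := by
      refine (UnivOpen.map_fromSpecStalk f (x := x) p).trans ?_
      convert Scheme.fromSpecStalk_closedPoint
      refine PrimeSpectrum.ext ((maximalIdeal.isMaximal O).eq_of_le (Ideal.IsPrime.ne_top inferInstance) ?_).symm
      rw [hm, Ideal.span_le, Set.singleton_subset_iff]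
      exact hπP
    have hzx : z ⤳ x := by
      have : z ∈ Set.range (X.fromSpecStalk x) := ⟨p, rfl⟩
      rw [Scheme.range_fromSpecStalk] at this
      exact this
    have hmax : ∀ v, v ⤳ z → v = z := fun v hv => by
      obtain ⟨q, rfl⟩ : v ∈ Set.range (X.fromSpecStalk x) := by
        rw [Scheme.range_fromSpecStalk]; exact hv.trans hzx
      let q' : PrimeSpectrum (X.presheaf.stalk x) := q
      have hqp : q'.asIdeal ≤ P := (PrimeSpectrum.le_iff_specializes q' p).2
        ((X.fromSpecStalk x).isEmbedding.isInducing.specializes_iff.1 hv)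
      exact congrArg (X.fromSpecStalk x) (show q' = p from
        PrimeSpectrum.ext (le_antisymm hqp (hP.2 ⟨q'.2, bot_le⟩ hqp)))
    let η : Spec (CommRingCat.of A) := (⟨⊥, Ideal.isPrime_bot⟩ : PrimeSpectrum A)
    have hη : η ⤳ f z := (PrimeSpectrum.le_iff_specializes
      (⟨⊥, Ideal.isPrime_bot⟩ : PrimeSpectrum A) (f z : PrimeSpectrum A)).1 bot_le
    obtain ⟨ζ, hζ, hfζ⟩ := FibDim.exists_generization_of_isOpenAt f
      (hopen z hzx hfz (FibDim.fibMax_of_maximal f hmax)) hη
    rw [hmax ζ hζ, hfz, hfx] at hfζ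
    exact IsDiscreteValuationRing.not_a_field A (congrArg PrimeSpectrum.asIdeal hfζ)
  haveI := hred
  letI := φ.toAlgebra
  show Module.Flat O (X.presheaf.stalk x)
  rw [Module.Flat.flat_iff_torsion_eq_bot_of_isBezout, eq_bot_iff]
  rintro m ⟨⟨a, ha⟩, ham⟩
  obtain ⟨n, u, rfl⟩ := IsDiscreteValuationRing.eq_unit_mul_pow_irreducible (nonZeroDivisors.ne_zero ha) hπ
  change φ (↑u * π ^ n) * m = 0 at ham
  rw [map_mul, map_pow, mul_assoc, (u.isUnit.map φ).mul_right_eq_zero] at ham
  show m = 0
  clear ha
  induction n with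
  | zero => simpa using ham
  | succ n ih =>
    refine ih ?_
    rw [pow_succ', mul_assoc] at ham
    exact eq_zero_of_mul_eq_zero_of_quotient_reduced _ ht hker hmin ham

end Groth.Agent.FlatDvr
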